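import Mathlib
import Groth.Agent.H44Log.Cartier

/-!
The Cartier isomorphism in coordinates: for an algebra `B` with coordinates `tᵢ` such that the `dtᵢ`
form a basis of the differentials and the monomials `t^r`, `r ∈ [0,p)ⁿ`, a `p`-basis, the cohomology
of the de Rham complex is free over `Bᵖ` on the classes of the `∏_{i∈s} tᵢ^{p-1} dtᵢ`.
-/

universe u

noncomputable section

namespace Groth.Agent.H44Cartier

set_option linter.unusedSectionVars false

open H44Log (cnt emb emb_injective)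

variable {p : ℕ} [hp : Fact p.Prime] {A B : Type u} [CommRing A] [CommRing B] [Algebra A B] {n : ℕ}

/-- Coordinates with a `p`-basis. -/
structure Coord (p : ℕ) (A B : Type u) [CommRing A] [CommRing B] [Algebra A B] (n : ℕ) where
  char_zero : (p : B) = 0
  t : Fin n → B
  basis : Module.Basis (Fin n) B Ω[B⁄A]
  basis_eq : ∀ i, basis i = KaehlerDifferential.D A B (t i)
  pbasis : Function.Bijective fun c : (Fin n → Fin p) → B =>
    ∑ r, c r ^ p * ∏ i, t i ^ (r i : ℕ)
  d : ∀ q : ℕ, ↥(⋀[B]^q (Ω[B⁄A])) →ₗ[A] ↥(⋀[B]^(q + 1) (Ω[B⁄A]))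
  hd : DeRham.IsDiff (KaehlerDifferential.D A B) d

variable (S : Coord p A B n)

/-- The monomial of a remainder. -/
def Coord.mon (r : Fin n → Fin p) : B := ∏ i, S.t i ^ (r i : ℕ)

theorem Coord.nsmul_p (S : Coord p A B n) {M : Type*} [AddCommGroup M] [Module B M] (x : M) : p • x = 0 := by
  rw [← Nat.cast_smul_eq_nsmul B, S.char_zero, zero_smul]

theorem Coord.nsmul_eq_zero (S : Coord p A B n) {M : Type*} [AddCommGroup M] [Module B M] {N : ℕ} (h : p ∣ N) (x : M) :
    N • x = 0 := by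
  obtain ⟨k, rfl⟩ := h
  rw [mul_smul, S.nsmul_p]

theorem Coord.nsmul_pow (S : Coord p A B n) {M : Type*} [AddCommGroup M] [Module B M] (N : ℕ) (x : M) :
    N ^ (p - 1) • x = if p ∣ N then 0 else x := by
  split_ifs with h
  · exact S.nsmul_eq_zero (dvd_pow h (Nat.sub_ne_zero_of_lt hp.out.one_lt)) x
  · have h1 : ((N ^ (p - 1) : ℕ) : ZMod p) = ((1 : ℕ) : ZMod p) := by
      rw [Nat.cast_pow, Nat.cast_one]
      exact ZMod.pow_card_sub_one_eq_one fun h0 => h ((CharP.cast_eq_zero_iff (ZMod p) p N).1 h0)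
    rw [ZMod.natCast_eq_natCast_iff'] at h1
    conv_lhs => rw [← Nat.mod_add_div (N ^ (p - 1)) p, h1, Nat.mod_eq_of_lt hp.out.one_lt]
    rw [add_smul, one_smul, mul_smul, S.nsmul_p, add_zero]

theorem Coord.D_pow_p (S : Coord p A B n) (c : B) : KaehlerDifferential.D A B (c ^ p) = 0 := by
  rw [Derivation.leibniz_pow]
  exact S.nsmul_p _

/-- The coordinate derivative times the coordinate. -/
def Coord.euler (ν : Fin n) : Derivation A B B :=
  (S.t ν • S.basis.coord ν).compDer (KaehlerDifferential.D A B)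

theorem Coord.euler_t (ν i : Fin n) : S.euler ν (S.t i) = (if i = ν then 1 else 0 : ℕ) • S.t i := by
  show (S.t ν • S.basis.coord ν) (KaehlerDifferential.D A B (S.t i)) = _
  rw [← S.basis_eq, LinearMap.smul_apply, Module.Basis.coord_apply, Module.Basis.repr_self,
    Finsupp.single_apply, smul_eq_mul]
  split_ifs with h <;> simp [h]

omit hp in
theorem derivation_prod {ι : Type*} [Fintype ι] (θ : Derivation A B B) (x : ι → B) (l : ι → ℕ)
    (h : ∀ i, θ (x i) = l i • x i) (k : ι → ℕ) :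
    θ (∏ i, x i ^ k i) = (∑ i, k i * l i) • ∏ i, x i ^ k i := by
  classical
  suffices H : ∀ s : Finset ι, θ (∏ i ∈ s, x i ^ k i) = (∑ i ∈ s, k i * l i) • ∏ i ∈ s, x i ^ k i from H _
  intro s
  induction s using Finset.induction_on with
  | empty => simp
  | insert a s ha ih =>
    rw [Finset.prod_insert ha, Finset.sum_insert ha, Derivation.leibniz, ih, Derivation.leibniz_pow, h]
    simp only [smul_eq_mul, nsmul_eq_mul, Nat.cast_add, Nat.cast_mul]
    cases k a with
    | zero => simp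
    | succ m =>
      simp only [Nat.add_sub_cancel, pow_succ]
      ring

/-- The field `t ν ∂/∂t ν` on functions. -/
theorem Coord.euler_monomial (ν : Fin n) (c : B) (r : Fin n → Fin p) :
    S.t ν * S.basis.coord ν (KaehlerDifferential.D A B (c ^ p * S.mon r)) =
      (r ν : ℕ) • (c ^ p * S.mon r) := by
  show S.euler ν (c ^ p * S.mon r) = _
  rw [Derivation.leibniz, Coord.mon, derivation_prod (S.euler ν) S.t _ (S.euler_t ν)]
  have h0 : S.euler ν (c ^ p) = 0 := by
    rw [Derivation.leibniz_pow]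
    exact S.nsmul_p _
  rw [h0, smul_zero, add_zero, Finset.sum_eq_single ν (fun b _ hb => by rw [if_neg hb, mul_zero])
    (fun h => absurd (Finset.mem_univ ν) h), if_pos rfl, mul_one, smul_comm, smul_eq_mul]

/-- The frame. -/
def Coord.v (i : Fin n) : Ω[B⁄A] := KaehlerDifferential.D A B (S.t i)

/-- Wedge of frame vectors. -/
def Coord.E {q : ℕ} (g : Fin q → Fin n) : ExteriorAlgebra B Ω[B⁄A] :=
  ExteriorAlgebra.ιMulti B q (S.v ∘ g)

theorem Coord.E_succ {q : ℕ} (g : Fin (q + 1) → Fin n) :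
    S.E g = ExteriorAlgebra.ι B (S.v (g 0)) * S.E (fun i => g i.succ) := by
  rw [Coord.E, ExteriorAlgebra.ιMulti_succ_apply]
  rfl

/-- Integral combinations of wedges of frame vectors. -/
def Coord.grp (q : ℕ) : AddSubgroup (ExteriorAlgebra B Ω[B⁄A]) :=
  AddSubgroup.closure (Set.range fun g : Fin q → Fin n => S.E g)

theorem Coord.ι_mul_mem_grp (μ : Fin n) {q : ℕ} {x : ExteriorAlgebra B Ω[B⁄A]} (hx : x ∈ S.grp q) :
    ExteriorAlgebra.ι B (S.v μ) * x ∈ S.grp (q + 1) := by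
  refine AddSubgroup.closure_induction ?_ ?_ (fun a b _ _ ha hb => ?_) (fun a _ ha => ?_) hx
  · rintro _ ⟨g, rfl⟩
    refine AddSubgroup.subset_closure ⟨Fin.cons μ g, ?_⟩
    show S.E _ = _
    rw [S.E_succ]
    simp
  · rw [mul_zero]
    exact zero_mem _
  · rw [mul_add]
    exact add_mem ha hb
  · rw [mul_neg]
    exact neg_mem ha

/-- The interior product of a wedge. -/
def Coord.cE (ν : Fin n) {q : ℕ} (g : Fin q → Fin n) : ExteriorAlgebra B Ω[B⁄A] :=
  CliffordAlgebra.contractLeft (Q := (0 : QuadraticForm B Ω[B⁄A])) (S.basis.coord ν) (S.E g)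

theorem Coord.coord_v (ν μ : Fin n) : S.basis.coord ν (S.v μ) = if μ = ν then 1 else 0 := by
  rw [Coord.v, ← S.basis_eq μ, Module.Basis.coord_apply, Module.Basis.repr_self, Finsupp.single_apply]

theorem Coord.cE_zero (ν : Fin n) (g : Fin 0 → Fin n) : S.cE ν g = 0 := by
  rw [Coord.cE, Coord.E, ExteriorAlgebra.ιMulti_zero_apply]
  exact CliffordAlgebra.contractLeft_one _ _

theorem Coord.cE_succ (ν : Fin n) {q : ℕ} (g : Fin (q + 1) → Fin n) :
    S.cE ν g = (if g 0 = ν then 1 else 0 : B) • S.E (fun i => g i.succ) -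
      ExteriorAlgebra.ι B (S.v (g 0)) * S.cE ν (fun i => g i.succ) := by
  rw [Coord.cE, S.E_succ, ← S.coord_v]
  exact CliffordAlgebra.contractLeft_ι_mul _ _ _

theorem Coord.cE_mem (ν : Fin n) : ∀ {q : ℕ} (g : Fin (q + 1) → Fin n), S.cE ν g ∈ S.grp q := by
  intro q
  induction q with
  | zero =>
    intro g
    rw [S.cE_succ, S.cE_zero, mul_zero, sub_zero]
    split_ifs
    · rw [one_smul]
      exact AddSubgroup.subset_closure ⟨_, rfl⟩
    · rw [zero_smul]
      exact zero_mem _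
  | succ q ih =>
    intro g
    rw [S.cE_succ]
    refine sub_mem ?_ (S.ι_mul_mem_grp _ (ih _))
    split_ifs
    · rw [one_smul]
      exact AddSubgroup.subset_closure ⟨_, rfl⟩
    · rw [zero_smul]
      exact zero_mem _

theorem Coord.v_mul_cE (ν : Fin n) : ∀ {q : ℕ} (g : Fin q → Fin n),
    ExteriorAlgebra.ι B (S.v ν) * S.cE ν g = cnt ν g • S.E g := by
  intro q
  induction q with
  | zero =>
    intro g
    rw [S.cE_zero, mul_zero, cnt, Finset.univ_eq_empty, Finset.sum_empty, zero_smul]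
  | succ q ih =>
    intro g
    have hanti : ExteriorAlgebra.ι B (S.v ν) * ExteriorAlgebra.ι B (S.v (g 0)) =
        - (ExteriorAlgebra.ι B (S.v (g 0)) * ExteriorAlgebra.ι B (S.v ν)) :=
      eq_neg_of_add_eq_zero_left (ExteriorAlgebra.ι_add_mul_swap _ _)
    rw [S.cE_succ, mul_sub, ← mul_assoc, hanti, neg_mul, sub_neg_eq_add, mul_assoc, ih,
      show ExteriorAlgebra.ι B (S.v (g 0)) * (cnt ν (fun i => g i.succ) • S.E (fun i => g i.succ)) =
        cnt ν (fun i => g i.succ) • S.E g by rw [mul_smul_comm, S.E_succ g],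
      cnt, cnt, Fin.sum_univ_succ, add_smul, mul_smul_comm]
    congr 1
    split_ifs with h
    · rw [one_smul, one_smul, S.E_succ g, h]
    · simp

theorem Coord.grp_mem {q : ℕ} {x : ExteriorAlgebra B Ω[B⁄A]} (hx : x ∈ S.grp q) :
    x ∈ ⋀[B]^q (Ω[B⁄A]) ∧ ∀ (h : x ∈ ⋀[B]^q (Ω[B⁄A])) (f : B),
      (S.d q (f • (⟨x, h⟩ : ↥(⋀[B]^q (Ω[B⁄A]))))).1 =
        ExteriorAlgebra.ι B (KaehlerDifferential.D A B f) * x := by
  refine AddSubgroup.closure_induction ?_ ?_ (fun a b _ _ ha hb => ?_) (fun a _ ha => ?_) hx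
  · rintro _ ⟨g, rfl⟩
    refine ⟨(exteriorPower.ιMulti B q (S.v ∘ g)).2, fun h f => ?_⟩
    have e := S.hd.1 q f (S.t ∘ g)
    change S.d q (f • exteriorPower.ιMulti B q (S.v ∘ g)) =
      exteriorPower.ιMulti B (q + 1) (Fin.cons (KaehlerDifferential.D A B f) (S.v ∘ g)) at e
    refine (congrArg Subtype.val e).trans ?_
    rw [exteriorPower.ιMulti_apply_coe, ExteriorAlgebra.ιMulti_succ_apply]
    simp [Coord.E, Coord.v, Matrix.vecTail, Function.comp_def]
  · refine ⟨zero_mem _, fun h f => ?_⟩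
    rw [show (⟨0, h⟩ : ↥(⋀[B]^q (Ω[B⁄A]))) = 0 from rfl, smul_zero, map_zero, mul_zero]
    rfl
  · refine ⟨add_mem ha.1 hb.1, fun h f => ?_⟩
    rw [show (⟨a + b, h⟩ : ↥(⋀[B]^q (Ω[B⁄A]))) = ⟨a, ha.1⟩ + ⟨b, hb.1⟩ from rfl, smul_add, map_add,
      Submodule.coe_add, ha.2 ha.1 f, hb.2 hb.1 f, mul_add]
  · refine ⟨neg_mem ha.1, fun h f => ?_⟩
    rw [show (⟨-a, h⟩ : ↥(⋀[B]^q (Ω[B⁄A]))) = -⟨a, ha.1⟩ from rfl, smul_neg, map_neg, Submodule.coe_neg,
      ha.2 ha.1 f, mul_neg]

/-- The wedge as a form. -/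
def Coord.e' {q : ℕ} (g : Fin q → Fin n) : ↥(⋀[B]^q (Ω[B⁄A])) := exteriorPower.ιMulti B q (S.v ∘ g)

theorem Coord.d_smul_e' {q : ℕ} (g : Fin q → Fin n) (f : B) :
    (S.d q (f • S.e' g)).1 = ExteriorAlgebra.ι B (KaehlerDifferential.D A B f) * S.E g :=
  (S.grp_mem (AddSubgroup.subset_closure ⟨g, rfl⟩ : S.E g ∈ S.grp q)).2 (S.e' g).2 f

theorem Coord.eq_sum {q : ℕ} (x : ↥(⋀[B]^q (Ω[B⁄A]))) :
    x = ∑ K : Set.powersetCard (Fin n) q,
      ((S.basis.exteriorPower q).repr x K) • S.e' (emb K.1 K.2) := by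
  conv_lhs => rw [← (S.basis.exteriorPower q).sum_repr x]
  refine Finset.sum_congr rfl fun K _ => ?_
  rw [exteriorPower.basis_apply]
  simp [exteriorPower.ιMulti_family, Function.comp_def, emb, Coord.e', Coord.v, S.basis_eq,
    Set.powersetCard.ofFinEmbEquiv_symm_apply]

theorem Coord.ct_mem (ν : Fin n) {q : ℕ} {x : ExteriorAlgebra B Ω[B⁄A]} (hx : x ∈ ⋀[B]^(q + 1) (Ω[B⁄A])) :
    (S.t ν • CliffordAlgebra.contractLeft (Q := (0 : QuadraticForm B Ω[B⁄A])) (S.basis.coord ν)) x ∈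
      ⋀[B]^q (Ω[B⁄A]) := by
  rw [show x = ((⟨x, hx⟩ : ↥(⋀[B]^(q + 1) (Ω[B⁄A])))).1 from rfl, S.eq_sum ⟨x, hx⟩,
    Submodule.coe_sum, map_sum]
  refine sum_mem fun K _ => ?_
  rw [Submodule.coe_smul, map_smul]
  exact Submodule.smul_mem _ _ (Submodule.smul_mem _ _ (S.grp_mem (S.cE_mem ν _)).1)

/-- The interior product with `t ν ∂/∂t ν` in fixed degree. -/
def Coord.c (ν : Fin n) (q : ℕ) : ↥(⋀[B]^(q + 1) (Ω[B⁄A])) →ₗ[B] ↥(⋀[B]^q (Ω[B⁄A])) :=
  (S.t ν • CliffordAlgebra.contractLeft (Q := (0 : QuadraticForm B Ω[B⁄A])) (S.basis.coord ν)).restrict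
    fun _ hx => S.ct_mem ν hx

/-- The Lie derivative. -/
def Coord.T (ν : Fin n) : ∀ q : ℕ, Module.End A ↥(⋀[B]^q (Ω[B⁄A]))
  | 0 => ((S.c ν 0).restrictScalars A).comp (S.d 0)
  | q + 1 => (S.d q).comp ((S.c ν q).restrictScalars A) +
      ((S.c ν (q + 1)).restrictScalars A).comp (S.d (q + 1))

theorem Coord.dd (q : ℕ) (x : ↥(⋀[B]^q (Ω[B⁄A]))) : S.d (q + 1) (S.d q x) = 0 :=
  LinearMap.congr_fun (S.hd.2 q) x

theorem Coord.T_d (ν : Fin n) : ∀ (q : ℕ) (x : ↥(⋀[B]^q (Ω[B⁄A]))),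
    S.T ν (q + 1) (S.d q x) = S.d q (S.T ν q x)
  | 0, x => by simp [Coord.T, S.dd]
  | q + 1, x => by simp [Coord.T, S.dd]

theorem Coord.T_exact (ν : Fin n) : ∀ (q : ℕ) (x : ↥(⋀[B]^q (Ω[B⁄A]))), x ∈ DeRham.cocycles S.d q →
    S.T ν q x ∈ DeRham.coboundaries S.d q
  | 0, x, hx => by
    have : S.d 0 x = 0 := hx
    simp [Coord.T, this, DeRham.coboundaries]
  | q + 1, x, hx => by
    have : S.d (q + 1) x = 0 := hx
    refine ⟨S.c ν q x, ?_⟩
    simp [Coord.T, this]

theorem Coord.coboundaries_le : ∀ q : ℕ, DeRham.coboundaries S.d q ≤ DeRham.cocycles S.d q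
  | 0 => bot_le
  | q + 1 => by
    rintro _ ⟨x, rfl⟩
    exact S.dd q x

/-- The weight. -/
def wt (ν : Fin n) (r : Fin n → Fin p) {q : ℕ} (g : Fin q → Fin n) : ℕ := (r ν : ℕ) + cnt ν g

theorem Coord.T_monomial (ν : Fin n) {q : ℕ} (g : Fin q → Fin n) (c : B) (r : Fin n → Fin p) :
    S.T ν q ((c ^ p * S.mon r) • S.e' g) = wt ν r g • ((c ^ p * S.mon r) • S.e' g) := by
  set f : B := c ^ p * S.mon r
  have hcd : (S.c ν q (S.d q (f • S.e' g))).1 =
      ((r ν : ℕ) • f) • S.E g -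
        S.t ν • (ExteriorAlgebra.ι B (KaehlerDifferential.D A B f) * S.cE ν g) := by
    rw [Coord.c, LinearMap.coe_restrict_apply, S.d_smul_e', LinearMap.smul_apply,
      CliffordAlgebra.contractLeft_ι_mul, smul_sub, smul_smul, S.euler_monomial]
    rfl
  match q, g with
  | 0, g =>
    refine Subtype.ext ?_
    show (S.c ν 0 (S.d 0 _)).1 = _
    rw [hcd, S.cE_zero, mul_zero, smul_zero, sub_zero, wt, cnt, Finset.univ_eq_empty,
      Finset.sum_empty, add_zero, smul_assoc]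
    rfl
  | q + 1, g =>
    refine Subtype.ext ?_
    show (S.d q (S.c ν q (f • S.e' g))).1 + (S.c ν (q + 1) (S.d (q + 1) (f • S.e' g))).1 = _
    have hx := S.grp_mem (S.cE_mem ν g)
    have e : S.c ν q (f • S.e' g) = (f * S.t ν) • ⟨S.cE ν g, hx.1⟩ := by
      refine Subtype.ext ?_
      rw [map_smul, Submodule.coe_smul, Coord.c, LinearMap.coe_restrict_apply,
        LinearMap.smul_apply, smul_smul]
      rfl
    rw [hcd, e, hx.2 hx.1, Derivation.leibniz, map_add, map_smul, map_smul, add_mul, smul_mul_assoc,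
      smul_mul_assoc]
    have hτd : f • (ExteriorAlgebra.ι B (KaehlerDifferential.D A B (S.t ν)) * S.cE ν g) =
        cnt ν g • (f • S.E g) := by
      rw [← Coord.v, S.v_mul_cE, smul_comm]
    rw [hτd]
    simp only [wt, add_smul, smul_assoc, Submodule.coe_add, Submodule.coe_smul_of_tower]
    rw [show (S.e' g).1 = S.E g from rfl]
    abel

/-- The product of all projectors. -/
def Coord.proj (q : ℕ) : List (Fin n) → Module.End A ↥(⋀[B]^q (Ω[B⁄A]))
  | [] => 1
  | ν :: l => (1 - (S.T ν q) ^ (p - 1)) * Coord.proj q l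

theorem Coord.pow_T_d (ν : Fin n) (q : ℕ) : ∀ (k : ℕ) (x : ↥(⋀[B]^q (Ω[B⁄A]))),
    (S.T ν (q + 1) ^ k) (S.d q x) = S.d q ((S.T ν q ^ k) x)
  | 0, x => rfl
  | k + 1, x => by
    rw [pow_succ', pow_succ', Module.End.mul_apply, Module.End.mul_apply, Coord.pow_T_d ν q k, S.T_d]

theorem Coord.proj_d (q : ℕ) : ∀ (l : List (Fin n)) (x : ↥(⋀[B]^q (Ω[B⁄A]))),
    S.proj (q + 1) l (S.d q x) = S.d q (S.proj q l x)
  | [], x => rfl
  | ν :: l, x => by
    simp [Coord.proj, Coord.proj_d q l, S.pow_T_d]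

theorem Coord.T_pow_exact (ν : Fin n) (q : ℕ) : ∀ (k : ℕ), 0 < k → ∀ x ∈ DeRham.cocycles S.d q,
    (S.T ν q ^ k) x ∈ DeRham.coboundaries S.d q
  | 0, h, _, _ => absurd h (lt_irrefl 0)
  | 1, _, x, hx => by simpa using S.T_exact ν q x hx
  | k + 2, _, x, hx => by
    rw [pow_succ', Module.End.mul_apply]
    exact S.T_exact ν q _ (S.coboundaries_le q (Coord.T_pow_exact ν q (k + 1) k.succ_pos x hx))

theorem Coord.sub_proj_exact (q : ℕ) : ∀ (l : List (Fin n)) (x : ↥(⋀[B]^q (Ω[B⁄A]))),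
    x ∈ DeRham.cocycles S.d q → x - S.proj q l x ∈ DeRham.coboundaries S.d q
  | [], x, _ => by simp [Coord.proj]
  | ν :: l, x, hx => by
    have h := Coord.sub_proj_exact q l x hx
    have hy : S.proj q l x ∈ DeRham.cocycles S.d q := by
      have := Submodule.sub_mem _ hx (S.coboundaries_le q h)
      simpa using this
    have e : x - S.proj q (ν :: l) x = (x - S.proj q l x) + (S.T ν q ^ (p - 1)) (S.proj q l x) := by
      simp [Coord.proj]
      abel
    rw [e]
    exact add_mem h (S.T_pow_exact ν q _ (Nat.sub_pos_of_lt hp.out.one_lt) _ hy)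

theorem Coord.proj_monomial {q : ℕ} (g : Fin q → Fin n) (c : B) (r : Fin n → Fin p) :
    ∀ l : List (Fin n), S.proj q l ((c ^ p * S.mon r) • S.e' g) =
      if ∀ ν ∈ l, p ∣ wt ν r g then (c ^ p * S.mon r) • S.e' g else 0
  | [] => by simp [Coord.proj]
  | ν :: l => by
    rw [Coord.proj, Module.End.mul_apply, Coord.proj_monomial g c r l]
    by_cases hl : ∀ μ ∈ l, p ∣ wt μ r g
    · rw [if_pos hl, LinearMap.sub_apply, Module.End.one_apply,
        H44Log.T_iterate _ (S.T_monomial ν g c r), S.nsmul_pow]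
      by_cases hν : p ∣ wt ν r g
      · rw [if_pos hν, sub_zero, if_pos (by simpa [hν] using hl)]
      · rw [if_neg hν, sub_self, if_neg (fun h => hν (h ν (List.mem_cons_self)))]
    · rw [if_neg hl, map_zero, if_neg (fun h => hl fun μ hμ => h μ (List.mem_cons_of_mem _ hμ))]

/-- The standard remainder attached to an index tuple. -/
def stdR (p : ℕ) [hp : Fact p.Prime] {q : ℕ} (g : Fin q → Fin n) : Fin n → Fin p := fun ν =>
  ⟨if ∃ j, g j = ν then p - 1 else 0, by have := hp.out.pos; split_ifs <;> omega⟩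

omit [CommRing A] [CommRing B] [Algebra A B] in
theorem cnt_eq {q : ℕ} {g : Fin q → Fin n} (hg : Function.Injective g) (ν : Fin n) :
    cnt ν g = if ∃ j, g j = ν then 1 else 0 := by
  split_ifs with h
  · obtain ⟨j, rfl⟩ := h
    rw [cnt, Finset.sum_eq_single j (fun i _ hi => if_neg fun e => hi (hg e))
      (fun h => absurd (Finset.mem_univ j) h), if_pos rfl]
  · exact Finset.sum_eq_zero fun j _ => if_neg fun e => h ⟨j, e⟩

omit [CommRing A] [CommRing B] [Algebra A B] in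
theorem dvd_wt_iff {q : ℕ} {g : Fin q → Fin n} (hg : Function.Injective g) (r : Fin n → Fin p) :
    (∀ ν, p ∣ wt ν r g) ↔ r = stdR p g := by
  have hp1 := hp.out.one_lt
  refine ⟨fun h => funext fun ν => Fin.ext ?_, ?_⟩
  · have h1 := h ν
    have h2 := (r ν).2
    rw [wt, cnt_eq hg] at h1
    by_cases hν : ∃ j, g j = ν
    · rw [if_pos hν] at h1
      simp only [stdR, if_pos hν]
      have := Nat.le_of_dvd (by omega) h1
      omega
    · rw [if_neg hν, add_zero] at h1
      simp only [stdR, if_neg hν]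
      exact Nat.eq_zero_of_dvd_of_lt h1 h2
  · rintro rfl ν
    rw [wt, cnt_eq hg]
    simp only [stdR]
    split_ifs
    · rw [Nat.sub_add_cancel hp1.le]
    · exact dvd_zero p

/-- The standard closed form `∏_{i∈s} tᵢ^{p-1} dtᵢ`. -/
def Coord.cls {q : ℕ} (K : Set.powersetCard (Fin n) q) : ↥(⋀[B]^q (Ω[B⁄A])) :=
  S.mon (stdR p (emb K.1 K.2)) • S.e' (emb K.1 K.2)

theorem Coord.proj_cls {q : ℕ} (c : B) (K : Set.powersetCard (Fin n) q) :
    S.proj q (List.finRange n) (c ^ p • S.cls K) = c ^ p • S.cls K := by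
  rw [Coord.cls, smul_smul, S.proj_monomial, if_pos]
  exact fun ν _ => (dvd_wt_iff (emb_injective _ _) _).2 rfl ν

theorem Coord.d_cls {q : ℕ} (c : B) (K : Set.powersetCard (Fin n) q) :
    S.d q (c ^ p • S.cls K) = 0 := by
  set g := emb K.1 K.2
  rw [Coord.cls, smul_smul]
  refine Subtype.ext ((S.d_smul_e' g _).trans ?_)
  set f := c ^ p * S.mon (stdR p g)
  rw [← S.basis.sum_repr (KaehlerDifferential.D A B f), map_sum, Finset.sum_mul]
  refine Finset.sum_eq_zero fun μ _ => ?_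
  rw [map_smul, smul_mul_assoc, S.basis_eq, ← Coord.v]
  by_cases hμ : ∃ j, g j = μ
  · obtain ⟨j, rfl⟩ := hμ
    have : ExteriorAlgebra.ι B (S.v (g j)) * S.E g = 0 := by
      have := (ExteriorAlgebra.ιMulti B (q + 1)).map_eq_zero_of_eq (Fin.cons (S.v (g j)) (S.v ∘ g))
        (i := 0) (j := j.succ) (by rw [Fin.cons_zero, Fin.cons_succ]; rfl)
        (Fin.succ_ne_zero j).symm
      rw [ExteriorAlgebra.ιMulti_succ_apply] at this
      simpa [Coord.E, Matrix.vecTail, Function.comp_def] using this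
    rw [this, smul_zero]
  · suffices h : S.basis.repr (KaehlerDifferential.D A B f) μ = 0 by rw [h, zero_smul]
    rw [Derivation.leibniz, S.D_pow_p, smul_zero, add_zero, map_smul, Finsupp.smul_apply]
    show c ^ p * ((S.basis.coord μ).compDer (KaehlerDifferential.D A B)) (∏ i, S.t i ^ ((stdR p g i : ℕ))) = 0
    have hder : ∀ i, ((S.basis.coord μ).compDer (KaehlerDifferential.D A B)) (S.t i) =
        if i = μ then 1 else 0 := fun i => by
      simp [← S.basis_eq, Finsupp.single_apply]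
    classical
    have h0 : (stdR p g μ : ℕ) = 0 := by simp [stdR, hμ]
    have hz : ∀ s : Finset (Fin n), ((S.basis.coord μ).compDer (KaehlerDifferential.D A B))
        (∏ i ∈ s, S.t i ^ ((stdR p g i : ℕ))) = 0 := by
      intro s
      induction s using Finset.induction_on with
      | empty => simp
      | insert a s ha ih =>
        rw [Finset.prod_insert ha, Derivation.leibniz, ih, smul_zero, zero_add, Derivation.leibniz_pow, hder]
        rcases eq_or_ne a μ with rfl | h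
        · rw [h0, zero_smul, smul_zero]
        · rw [if_neg h, smul_zero, smul_zero, smul_zero]
    rw [hz, mul_zero]

theorem Coord.exists_proj_eq {q : ℕ} (x : ↥(⋀[B]^q (Ω[B⁄A]))) :
    ∃ c : Set.powersetCard (Fin n) q → B,
      S.proj q (List.finRange n) x = ∑ K, c K ^ p • S.cls K := by
  classical
  choose a ha using fun K => S.pbasis.2 ((S.basis.exteriorPower q).repr x K)
  refine ⟨fun K => a K (stdR p (emb K.1 K.2)), ?_⟩
  conv_lhs => rw [S.eq_sum x, map_sum]
  refine Finset.sum_congr rfl fun K _ => ?_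
  rw [← ha K, Finset.sum_smul, map_sum,
    Finset.sum_eq_single (stdR p (emb K.1 K.2))]
  · rw [show (∏ i, S.t i ^ ((stdR p (emb K.1 K.2) i : ℕ))) = S.mon (stdR p (emb K.1 K.2)) from rfl,
      S.proj_monomial, if_pos, Coord.cls, smul_smul]
    exact fun ν _ => (dvd_wt_iff (emb_injective _ _) _).2 rfl ν
  · intro r _ hr
    rw [show (∏ i, S.t i ^ (r i : ℕ)) = S.mon r from rfl, S.proj_monomial, if_neg]
    exact fun h => hr ((dvd_wt_iff (emb_injective _ _) r).1 fun ν => h ν (List.mem_finRange ν))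
  · exact fun h => absurd (Finset.mem_univ _) h

/-- Surjectivity of the inverse Cartier operator in coordinates. -/
theorem Coord.exists_class {q : ℕ} {x : ↥(⋀[B]^q (Ω[B⁄A]))} (hx : x ∈ DeRham.cocycles S.d q) :
    ∃ c : Set.powersetCard (Fin n) q → B,
      x - ∑ K, c K ^ p • S.cls K ∈ DeRham.coboundaries S.d q := by
  obtain ⟨c, hc⟩ := S.exists_proj_eq x
  exact ⟨c, hc ▸ S.sub_proj_exact q (List.finRange n) x hx⟩

theorem Coord.sum_cls_eq_zero {q : ℕ} (c : Set.powersetCard (Fin n) q → B)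
    (h : ∑ K, c K ^ p • S.cls K = 0) (K : Set.powersetCard (Fin n) q) : c K = 0 := by
  classical
  have he : ∀ J : Set.powersetCard (Fin n) q, S.e' (emb J.1 J.2) = S.basis.exteriorPower q J := fun J => by
    rw [exteriorPower.basis_apply]
    simp [exteriorPower.ιMulti_family, Function.comp_def, emb, Coord.e', Coord.v, S.basis_eq,
      Set.powersetCard.ofFinEmbEquiv_symm_apply]
  have h1 := congrArg (fun z => (S.basis.exteriorPower q).repr z K) h
  simp only [map_sum, Finsupp.finsetSum_apply, map_zero, Finsupp.zero_apply, Coord.cls, smul_smul, he,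
    map_smul, Module.Basis.repr_self, Finsupp.smul_apply, Finsupp.single_apply, smul_eq_mul, mul_ite,
    mul_one, mul_zero, Finset.sum_ite_eq', Finset.mem_univ, if_true] at h1
  have h2 : (Pi.single (stdR p (emb K.1 K.2)) (c K) : (Fin n → Fin p) → B) = 0 := S.pbasis.1 (by
    simp only [Pi.zero_apply, zero_pow hp.out.ne_zero, zero_mul, Finset.sum_const_zero]
    rw [Finset.sum_eq_single (stdR p (emb K.1 K.2)), Pi.single_eq_same]
    · exact h1
    · intro r _ hr
      rw [Pi.single_eq_of_ne hr, zero_pow hp.out.ne_zero, zero_mul]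
    · exact fun h => absurd (Finset.mem_univ _) h)
  simpa using congrFun h2 (stdR p (emb K.1 K.2))

/-- Injectivity of the inverse Cartier operator in coordinates. -/
theorem Coord.class_unique {q : ℕ} (c : Set.powersetCard (Fin n) q → B)
    (h : ∑ K, c K ^ p • S.cls K ∈ DeRham.coboundaries S.d q) (K : Set.powersetCard (Fin n) q) :
    c K = 0 := by
  refine S.sum_cls_eq_zero c ?_ K
  cases q with
  | zero => exact h
  | succ q =>
    obtain ⟨y, hy⟩ := h
    have e : S.proj (q + 1) (List.finRange n) (∑ K, c K ^ p • S.cls K) = ∑ K, c K ^ p • S.cls K := by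
      rw [map_sum]
      exact Finset.sum_congr rfl fun J _ => S.proj_cls (c J) J
    obtain ⟨a, ha⟩ := S.exists_proj_eq y
    rw [← e, ← hy, S.proj_d, ha, map_sum]
    exact Finset.sum_eq_zero fun J _ => S.d_cls (a J) J

end Groth.Agent.H44Cartier
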