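import Mathlib
import Groth.Agent.H44Cartier.PBasis
import Groth.Agent.H44Hyper.PolyPoincare
import Groth.Agent.FrobSmoothLib.Global
import Groth.Agent.S15293
import Groth.Agent.S15294

/-!
The inverse Cartier operator `Ω¹ → H¹` of a smooth algebra over a perfect ring of characteristic `p`
is bijective.
-/

universe u

noncomputable section

open TensorProduct

namespace Groth.Agent.H44Cartier

set_option linter.unusedSectionVars false
set_option linter.style.haveILetI false

section Ring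

variable {p : ℕ} [hp : Fact p.Prime] {A B : Type u} [CommRing A] [CommRing B] [Algebra A B]
  {d : ∀ q : ℕ, ↥(⋀[B]^q (Ω[B⁄A])) →ₗ[A] ↥(⋀[B]^(q + 1) (Ω[B⁄A]))}
  (hd : DeRham.IsDiff (KaehlerDifferential.D A B) d)

/-- A one-form as an element of the first exterior power. -/
def w1 : Ω[B⁄A] ≃ₗ[B] ↥(⋀[B]^1 (Ω[B⁄A])) := (exteriorPower.oneEquiv B (Ω[B⁄A])).symm

theorem w1_eq (x : Ω[B⁄A]) : w1 x = exteriorPower.ιMulti B 1 (fun _ => x) := by
  rw [w1, LinearEquiv.symm_apply_eq, exteriorPower.oneEquiv_ιMulti]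

theorem zeroEquiv_symm_eq (f : B) :
    (exteriorPower.zeroEquiv B (Ω[B⁄A])).symm f = f • exteriorPower.ιMulti B 0 ![] := by
  rw [LinearEquiv.symm_apply_eq, map_smul, exteriorPower.zeroEquiv_ιMulti, smul_eq_mul, mul_one]

include hd in
theorem d_gen (q : ℕ) (f : B) (b : Fin q → B) :
    d q (f • exteriorPower.ιMulti B q (fun i => KaehlerDifferential.D A B (b i))) =
      exteriorPower.ιMulti B (q + 1)
        (Fin.cons (KaehlerDifferential.D A B f) fun i => KaehlerDifferential.D A B (b i)) :=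
  hd.1 q f b

include hd in
theorem d_zero (f : B) :
    d 0 ((exteriorPower.zeroEquiv B (Ω[B⁄A])).symm f) = w1 (KaehlerDifferential.D A B f) := by
  rw [zeroEquiv_symm_eq, w1_eq]
  refine Eq.trans ?_ ((d_gen hd 0 f ![]).trans ?_)
  · congr 3
  · congr 1
    funext i
    obtain rfl : i = 0 := Fin.eq_zero i
    first | rfl | simp

include hd in
theorem d_one (f g : B) :
    d 1 (f • w1 (KaehlerDifferential.D A B g)) =
      exteriorPower.ιMulti B 2 ![KaehlerDifferential.D A B f, KaehlerDifferential.D A B g] := by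
  rw [w1_eq]
  refine (d_gen hd 1 f (fun _ => g)).trans ?_
  congr 1
  funext i
  fin_cases i <;> rfl

include hp in
theorem D_pow_p (hB : (p : B) = 0) (c : B) : KaehlerDifferential.D A B (c ^ p) = 0 := by
  rw [Derivation.leibniz_pow, ← Nat.cast_smul_eq_nsmul B, hB, zero_smul]

include hd hp in
/-- The de Rham differential is linear over `p`-th powers. -/
theorem d_pow_smul (hB : (p : B) = 0) (c : B) (q : ℕ) (x : ↥(⋀[B]^q (Ω[B⁄A]))) :
    d q (c ^ p • x) = c ^ p • d q x := by
  refine Synt29.DRGen.gen_induction (KaehlerDifferential.D A B)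
    (KaehlerDifferential.span_range_derivation A B) (P := fun x => d q (c ^ p • x) = c ^ p • d q x)
    (by simp) (fun x y hx hy => by rw [smul_add, map_add, hx, hy, map_add, smul_add]) (fun f b => ?_) x
  show d q (c ^ p • (f • exteriorPower.ιMulti B q fun i => KaehlerDifferential.D A B (b i))) =
    c ^ p • d q (f • exteriorPower.ιMulti B q fun i => KaehlerDifferential.D A B (b i))
  rw [smul_smul, d_gen hd, d_gen hd, Derivation.leibniz, D_pow_p hB, smul_zero, add_zero]
  classical
  have h := (exteriorPower.ιMulti B (q + 1) (M := Ω[B⁄A])).map_update_smul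
    (Fin.cons (KaehlerDifferential.D A B f) fun i => KaehlerDifferential.D A B (b i)) 0 (c ^ p)
    (KaehlerDifferential.D A B f)
  rwa [Fin.update_cons_zero, Fin.update_cons_zero] at h

/-- The form `f^{p-1} df`. -/
def gam (p : ℕ) (f : B) : ↥(⋀[B]^1 (Ω[B⁄A])) := f ^ (p - 1) • w1 (KaehlerDifferential.D A B f)

include hd in
theorem d_gam (f : B) : d 1 (gam (A := A) p f) = 0 := by
  rw [gam, d_one hd, Derivation.leibniz_pow, smul_comm]
  classical
  have h1 : ∀ (N : ℕ) (x : Ω[B⁄A]),
      exteriorPower.ιMulti B 2 ![N • x, KaehlerDifferential.D A B f] =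
        (N : B) • exteriorPower.ιMulti B 2 ![x, KaehlerDifferential.D A B f] := fun N x => by
    have h := (exteriorPower.ιMulti B 2 (M := Ω[B⁄A])).map_update_smul
      (Fin.cons x ![KaehlerDifferential.D A B f]) 0 (N : B) x
    rw [Nat.cast_smul_eq_nsmul, Fin.update_cons_zero, Fin.update_cons_zero] at h
    rw [Nat.cast_smul_eq_nsmul]
    exact h
  have h2 : ∀ (a : B), exteriorPower.ιMulti B 2 ![a • KaehlerDifferential.D A B f, KaehlerDifferential.D A B f] = 0 := fun a => by
    have h := (exteriorPower.ιMulti B 2 (M := Ω[B⁄A])).map_update_smul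
      (Fin.cons (KaehlerDifferential.D A B f) ![KaehlerDifferential.D A B f]) 0 a (KaehlerDifferential.D A B f)
    rw [Fin.update_cons_zero, Fin.update_cons_zero] at h
    refine h.trans ?_
    rw [(exteriorPower.ιMulti B 2).map_eq_zero_of_eq _ (i := 0) (j := 1) rfl zero_ne_one, smul_zero]
  rw [smul_comm, h1, h2, smul_zero]

include hd hp in
/-- Additivity of `f ↦ f^{p-1} df` up to exact forms. -/
theorem gam_add (f g : B) :
    ∃ z, gam (A := A) p (f + g) = gam p f + gam p g + d 0 z := by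
  open MvPolynomial in
  obtain ⟨Φ, hΦ⟩ := exists_add_pow_prime_eq hp.out (X 0 : MvPolynomial (Fin 2) ℤ) (X 1)
  let ev : MvPolynomial (Fin 2) ℤ →+* B := MvPolynomial.eval₂Hom (Int.castRingHom B) ![f, g]
  set Ψ : MvPolynomial (Fin 2) ℤ := MvPolynomial.X 0 * MvPolynomial.X 1 * Φ
  have hchain : ∀ P : MvPolynomial (Fin 2) ℤ, KaehlerDifferential.D A B (ev P) =
      ev (MvPolynomial.pderiv 0 P) • KaehlerDifferential.D A B f +
        ev (MvPolynomial.pderiv 1 P) • KaehlerDifferential.D A B g := by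
    intro P
    induction P using MvPolynomial.induction_on with
    | C a => simp [ev]
    | add P Q hP hQ => simp only [map_add, hP, hQ, add_smul]; abel
    | mul_X P i h =>
      simp only [map_mul, Derivation.leibniz, h, map_add, smul_eq_mul]
      fin_cases i <;> simp [ev, MvPolynomial.pderiv_X, smul_add, smul_smul, add_smul, mul_comm] <;> abel
  have hp0 : (p : MvPolynomial (Fin 2) ℤ) ≠ 0 := Nat.cast_ne_zero.2 hp.out.ne_zero
  have hder : ∀ i : Fin 2, MvPolynomial.pderiv i Ψ =
      (MvPolynomial.X 0 + MvPolynomial.X 1) ^ (p - 1) - (MvPolynomial.X i) ^ (p - 1) := fun i => by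
    apply mul_left_cancel₀ hp0
    have h := congrArg (MvPolynomial.pderiv i)
      (hΦ.trans (show _ = MvPolynomial.X 0 ^ p + MvPolynomial.X 1 ^ p + (p : MvPolynomial (Fin 2) ℤ) * Ψ by
        simp only [Ψ]; ring))
    simp only [map_add, Derivation.leibniz_pow, Derivation.leibniz, Derivation.map_natCast,
      smul_eq_mul, nsmul_eq_mul, mul_zero, add_zero] at h
    generalize MvPolynomial.pderiv i Ψ = D at h ⊢
    revert h
    fin_cases i <;> intro h <;> simp [MvPolynomial.pderiv_X] at h <;>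
      simp only [Fin.zero_eta, Fin.mk_one, Fin.isValue] at h ⊢ <;> linear_combination -h
  refine ⟨(exteriorPower.zeroEquiv B (Ω[B⁄A])).symm (ev Ψ), ?_⟩
  rw [d_zero hd, hchain, hder, hder]
  simp only [gam, ev, map_sub, map_pow, map_add, MvPolynomial.eval₂Hom_X', Matrix.cons_val_zero,
    Matrix.cons_val_one, Matrix.cons_val_fin_one, map_smul, sub_smul, smul_add]
  abel

theorem gam_mul (f g : B) : gam (A := A) p (f * g) = f ^ p • gam p g + g ^ p • gam p f := by
  rcases Nat.eq_zero_or_pos p with rfl | hp0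
  · exact absurd hp.out (by decide)
  obtain ⟨m, rfl⟩ : ∃ m, p = m + 1 := ⟨p - 1, (Nat.sub_add_cancel hp0).symm⟩
  simp only [gam, Derivation.leibniz, map_add, map_smul, smul_add, smul_smul, Nat.add_sub_cancel]
  congr 2 <;> ring

theorem gam_algebraMap (a : A) : gam p (algebraMap A B a) = (0 : ↥(⋀[B]^1 (Ω[B⁄A]))) := by
  rw [gam, Derivation.map_algebraMap, map_zero, smul_zero]

variable (p) [CharP B p]

/-- One-forms, with functions acting through their `p`-th powers. -/
@[nolint unusedArguments]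
def FW (_p : ℕ) (A B : Type u) [CommRing A] [CommRing B] [Algebra A B] : Type u :=
  ↥(⋀[B]^1 (Ω[B⁄A]))

instance : AddCommGroup (FW p A B) := inferInstanceAs (AddCommGroup ↥(⋀[B]^1 (Ω[B⁄A])))

instance : Module B (FW p A B) := Module.compHom ↥(⋀[B]^1 (Ω[B⁄A])) (frobenius B p)

/-- A one-form in `FW`. -/
def toFW : ↥(⋀[B]^1 (Ω[B⁄A])) ≃+ FW p A B := AddEquiv.refl _

theorem smul_FW (f : B) (x : ↥(⋀[B]^1 (Ω[B⁄A]))) : f • toFW p x = toFW p (f ^ p • x) := rfl

include hd in
/-- Closed forms. -/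
def Zs : Submodule B (FW p A B) where
  carrier := {x | d 1 ((toFW p).symm x) = 0}
  zero_mem' := by simp
  add_mem' := fun {x y} hx hy => by
    show d 1 ((toFW p).symm (x + y)) = 0
    rw [map_add, map_add, hx, hy, add_zero]
  smul_mem' := fun f x hx => by
    obtain ⟨x, rfl⟩ := (toFW p).surjective x
    show d 1 ((toFW p).symm (f • toFW p x)) = 0
    rw [smul_FW, AddEquiv.symm_apply_apply, d_pow_smul hd (CharP.cast_eq_zero B p)]
    have hx' : d 1 x = 0 := hx
    rw [hx', smul_zero]

/-- Exact forms. -/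
def Es : Submodule B (Zs (A := A) p hd) where
  carrier := {x | ∃ z, d 0 z = (toFW p).symm x.1}
  zero_mem' := ⟨0, by simp⟩
  add_mem' := by
    rintro x y ⟨a, ha⟩ ⟨b, hb⟩
    exact ⟨a + b, by rw [map_add, ha, hb, Submodule.coe_add, map_add]⟩
  smul_mem' := by
    rintro f ⟨x, hx⟩ ⟨a, ha⟩
    obtain ⟨x, rfl⟩ := (toFW p).surjective x
    refine ⟨f ^ p • a, ?_⟩
    rw [d_pow_smul hd (CharP.cast_eq_zero B p), ha]
    rfl

/-- The first de Rham cohomology, with functions acting through `p`-th powers. -/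
abbrev H1 : Type u := Zs (A := A) p hd ⧸ Es (A := A) p hd

/-- The class of a closed form. -/
def cl : ↥(DeRham.cocycles d 1) →+ H1 (A := A) p hd where
  toFun x := Submodule.Quotient.mk ⟨toFW p x.1, x.2⟩
  map_zero' := rfl
  map_add' _ _ := rfl

theorem cl_surjective (h : H1 (A := A) p hd) : ∃ x, cl p hd x = h := by
  obtain ⟨⟨x, hx⟩, rfl⟩ := Submodule.Quotient.mk_surjective _ h
  exact ⟨⟨(toFW p).symm x, hx⟩, rfl⟩

theorem cl_eq_zero_iff (x : ↥(DeRham.cocycles d 1)) :
    cl p hd x = 0 ↔ x.1 ∈ DeRham.coboundaries d 1 := by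
  show Submodule.Quotient.mk _ = 0 ↔ _
  rw [Submodule.Quotient.mk_eq_zero]
  rfl

theorem cl_eq_iff (x y : ↥(DeRham.cocycles d 1)) :
    cl p hd x = cl p hd y ↔ x.1 - y.1 ∈ DeRham.coboundaries d 1 := by
  rw [← sub_eq_zero, ← map_sub, cl_eq_zero_iff]
  rfl

include hd in
theorem pow_smul_mem {x : ↥(⋀[B]^1 (Ω[B⁄A]))} (hx : x ∈ DeRham.cocycles d 1) (f : B) :
    f ^ p • x ∈ DeRham.cocycles d 1 := by
  have h : d 1 x = 0 := hx
  show d 1 _ = 0
  rw [d_pow_smul hd (CharP.cast_eq_zero B p), h, smul_zero]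

theorem smul_cl (f : B) (x : ↥(DeRham.cocycles d 1)) :
    f • cl p hd x = cl p hd ⟨f ^ p • x.1, pow_smul_mem p hd x.2 f⟩ := rfl

instance : Module A (H1 (A := A) p hd) := Module.compHom _ (algebraMap A B)

instance : IsScalarTower A B (H1 (A := A) p hd) := IsScalarTower.of_algebraMap_smul fun _ _ => rfl

/-- `f ↦ [f^{p-1} df]`, a derivation. -/
def gamDer : Derivation A B (H1 (A := A) p hd) :=
  Derivation.mk'
    { toFun := fun f => cl p hd ⟨gam p f, d_gam hd f⟩
      map_add' := fun f g => by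
        rw [← map_add, cl_eq_iff]
        obtain ⟨z, hz⟩ := gam_add (p := p) hd f g
        refine ⟨z, ?_⟩
        show d 0 z = gam p (f + g) - (gam p f + gam p g)
        rw [hz]
        abel
      map_smul' := fun a f => by
        show cl p hd _ = algebraMap A B a • cl p hd _
        rw [smul_cl]
        congr 2
        rw [Algebra.smul_def, gam_mul, gam_algebraMap, smul_zero, add_zero] }
    fun f g => by
      show cl p hd _ = f • cl p hd _ + g • cl p hd _
      rw [smul_cl, smul_cl, ← map_add]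
      congr 2
      exact gam_mul f g

/-- The inverse Cartier operator. -/
def inv : Ω[B⁄A] →ₗ[B] H1 (A := A) p hd := (gamDer p hd).liftKaehlerDifferential

theorem inv_smul_D (f g : B) :
    inv p hd (f • KaehlerDifferential.D A B g) =
      cl p hd ⟨f ^ p • gam p g, pow_smul_mem p hd (d_gam hd g) f⟩ := by
  rw [map_smul, inv, Derivation.liftKaehlerDifferential_comp_D]
  rfl

theorem span_induction' {P : Ω[B⁄A] → Prop} (x : Ω[B⁄A]) (h0 : P 0)
    (hadd : ∀ x y, P x → P y → P (x + y)) (hgen : ∀ f g : B, P (f • KaehlerDifferential.D A B g)) : P x := by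
  have hx : x ∈ Submodule.span B (Set.range (KaehlerDifferential.D A B)) := by
    rw [KaehlerDifferential.span_range_derivation]
    trivial
  have : ∀ f : B, P (f • x) := by
    refine Submodule.span_induction (p := fun x _ => ∀ f : B, P (f • x)) ?_ ?_ ?_ ?_ hx
    · rintro _ ⟨g, rfl⟩ f
      exact hgen f g
    · intro f
      rw [smul_zero]
      exact h0
    · intro x y _ _ hx hy f
      rw [smul_add]
      exact hadd _ _ (hx f) (hy f)
    · intro a x _ hx f
      rw [smul_smul]
      exact hx _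
  simpa using this 1

end Ring

section Nat

variable {p : ℕ} [hp : Fact p.Prime] {A B B' : Type u} [CommRing A] [CommRing B] [Algebra A B]
  [CommRing B'] [Algebra A B'] [Algebra B B'] [IsScalarTower A B B'] [CharP B p] [CharP B' p]
  {d : ∀ q : ℕ, ↥(⋀[B]^q (Ω[B⁄A])) →ₗ[A] ↥(⋀[B]^(q + 1) (Ω[B⁄A]))}
  (hd : DeRham.IsDiff (KaehlerDifferential.D A B) d)
  {d' : ∀ q : ℕ, ↥(⋀[B']^q (Ω[B'⁄A])) →ₗ[A] ↥(⋀[B']^(q + 1) (Ω[B'⁄A]))}
  (hd' : DeRham.IsDiff (KaehlerDifferential.D A B') d')

/-- The map of one-forms. -/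
def map1 (x : ↥(⋀[B]^1 (Ω[B⁄A]))) : ↥(⋀[B']^1 (Ω[B'⁄A])) :=
  w1 (KaehlerDifferential.map A A B B' (w1.symm x))

theorem map1_add (x y : ↥(⋀[B]^1 (Ω[B⁄A]))) : map1 (B' := B') (x + y) = map1 x + map1 y := by
  simp [map1]

theorem map1_smul (f : B) (x : ↥(⋀[B]^1 (Ω[B⁄A]))) :
    map1 (B' := B') (f • x) = algebraMap B B' f • map1 x := by
  rw [map1, map1, map_smul, map_smul, ← algebraMap_smul B' f, map_smul]

theorem map1_gam (g : B) : map1 (B' := B') (gam (A := A) p g) = gam p (algebraMap B B' g) := by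
  rw [gam, map1_smul, map1, LinearEquiv.symm_apply_apply, KaehlerDifferential.map_D, gam, map_pow]

include hd hd' in
theorem map1_d (z : ↥(⋀[B]^0 (Ω[B⁄A]))) :
    ∃ z', map1 (B' := B') (d 0 z) = d' 0 z' := by
  obtain ⟨f, rfl⟩ := (exteriorPower.zeroEquiv B (Ω[B⁄A])).symm.surjective z
  refine ⟨(exteriorPower.zeroEquiv B' (Ω[B'⁄A])).symm (algebraMap B B' f), ?_⟩
  rw [d_zero hd, d_zero hd', map1, LinearEquiv.symm_apply_apply, KaehlerDifferential.map_D]

include hd hd' in
theorem map1_exact {x : ↥(⋀[B]^1 (Ω[B⁄A]))} (hx : x ∈ DeRham.coboundaries d 1) :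
    map1 (B' := B') x ∈ DeRham.coboundaries d' 1 := by
  obtain ⟨z, rfl⟩ := hx
  obtain ⟨z', hz'⟩ := map1_d hd hd' z
  exact ⟨z', hz'.symm⟩

include hd hd' in
theorem map1_closed {x : ↥(⋀[B]^1 (Ω[B⁄A]))} (hx : x ∈ DeRham.cocycles d 1) :
    map1 (B' := B') x ∈ DeRham.cocycles d' 1 := by
  obtain ⟨ψ, hψ⟩ := S15293.result A A B B'
  have h1 : ∀ y, ψ 1 y = map1 y := by
    refine fun y => Synt29.DRGen.gen_induction (KaehlerDifferential.D A B)
      (KaehlerDifferential.span_range_derivation A B) (P := fun y => ψ 1 y = map1 y)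
      (by simp [map1]) (fun x y hx hy => by rw [map_add, map1_add, hx, hy]) (fun f b => ?_) y
    rw [hψ 1 f b]
    show algebraMap B B' f • exteriorPower.ιMulti B' 1 _ = map1 (f • exteriorPower.ιMulti B 1 _)
    rw [map1_smul, map1]
    congr 1
    have e : (fun i => KaehlerDifferential.D A B (b i)) = fun _ : Fin 1 => KaehlerDifferential.D A B (b 0) := by
      funext i
      rw [Fin.eq_zero i]
    rw [e, ← w1_eq, LinearEquiv.symm_apply_apply, KaehlerDifferential.map_D, w1_eq]
    congr 1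
    funext i
    rw [Fin.eq_zero i]
  have h : d 1 x = 0 := hx
  show d' 1 _ = 0
  rw [← h1, ← S15294.result A A B B' d hd d' hd' ψ hψ 1 x, h, map_zero]

include hd hd' in
/-- Naturality of the inverse Cartier operator. -/
theorem inv_natural (x : Ω[B⁄A]) (z : ↥(DeRham.cocycles d 1)) (h : inv p hd x = cl p hd z) :
    inv p hd' (KaehlerDifferential.map A A B B' x) =
      cl p hd' ⟨map1 z.1, map1_closed hd hd' z.2⟩ := by
  suffices H : ∃ z₀ : ↥(DeRham.cocycles d 1), inv p hd x = cl p hd z₀ ∧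
      inv p hd' (KaehlerDifferential.map A A B B' x) = cl p hd' ⟨map1 z₀.1, map1_closed hd hd' z₀.2⟩ by
    obtain ⟨z₀, h1, h2⟩ := H
    rw [h2, cl_eq_iff]
    have e := (cl_eq_iff p hd z₀ z).1 (h1.symm.trans h)
    have := map1_exact hd hd' (B' := B') e
    have e2 : map1 (B' := B') (z₀.1 - z.1) = map1 z₀.1 - map1 z.1 := by simp [map1]
    rwa [e2] at this
  clear h z
  refine span_induction' (P := fun x => ∃ z₀ : ↥(DeRham.cocycles d 1), inv p hd x = cl p hd z₀ ∧
    inv p hd' (KaehlerDifferential.map A A B B' x) = cl p hd' ⟨map1 z₀.1, map1_closed hd hd' z₀.2⟩)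
    x ⟨0, by simp, ?_⟩ ?_ fun f g => ⟨_, inv_smul_D p hd f g, ?_⟩
  · rw [map_zero, map_zero]
    refine (map_zero (cl p hd')).symm.trans (congrArg _ (Subtype.ext ?_))
    simp [map1]
  · rintro x y ⟨a, ha, ha'⟩ ⟨b, hb, hb'⟩
    refine ⟨a + b, by rw [map_add, map_add, ha, hb], ?_⟩
    rw [map_add, map_add, ha', hb', ← map_add]
    congr 1
    exact Subtype.ext (map1_add _ _).symm
  · rw [map_smul, KaehlerDifferential.map_D, ← algebraMap_smul B' f, inv_smul_D]
    congr 2
    rw [map1_smul, map1_gam, map_pow]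

end Nat

section Coordinates

variable {p : ℕ} [hp : Fact p.Prime] {A B : Type u} [CommRing A] [CommRing B] [Algebra A B] {n : ℕ}
  [CharP B p]

/-- The singleton index set. -/
def single (i : Fin n) : Set.powersetCard (Fin n) 1 := ⟨{i}, Finset.card_singleton i⟩

theorem single_bijective : Function.Bijective (single (n := n)) := by
  refine ⟨fun i j h => Finset.singleton_injective (congrArg Subtype.val h), fun K => ?_⟩
  obtain ⟨i, hi⟩ := Finset.card_eq_one.1 K.2
  exact ⟨i, Subtype.ext hi.symm⟩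

theorem Coord.cls_single (S : Coord p A B n) (i : Fin n) :
    S.cls (single i) = gam p (S.t i) := by
  have he : H44Log.emb (single i).1 (single i).2 = fun _ : Fin 1 => i := by
    funext j
    exact Finset.mem_singleton.1 (Finset.orderEmbOfFin_mem _ _ j)
  rw [Coord.cls, he, gam, Coord.e', w1_eq]
  congr 1
  · rw [Coord.mon, Finset.prod_eq_single i]
    · simp [stdR]
    · intro b _ hb
      simp [stdR, Ne.symm hb]
    · exact fun h => absurd (Finset.mem_univ i) h

theorem Coord.inv_sum (S : Coord p A B n) (c : Fin n → B) :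
    ∃ h : (∑ i, c i ^ p • S.cls (single i)) ∈ DeRham.cocycles S.d 1,
      inv p S.hd (∑ i, c i • S.basis i) = cl p S.hd ⟨_, h⟩ := by
  refine ⟨sum_mem fun i _ => S.d_cls _ _, ?_⟩
  rw [map_sum]
  simp only [S.basis_eq, inv_smul_D, ← S.cls_single]
  rw [← map_sum]
  congr 1
  exact Subtype.ext (AddSubmonoidClass.coe_finsetSum _ _)

theorem Coord.inv_bijective (S : Coord p A B n) : Function.Bijective (inv p S.hd) := by
  refine ⟨(injective_iff_map_eq_zero _).2 fun x hx => ?_, fun h => ?_⟩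
  · obtain ⟨hm, e⟩ := S.inv_sum (fun i => S.basis.repr x i)
    rw [S.basis.sum_repr, hx, eq_comm, cl_eq_zero_iff] at e
    have e' : ∑ K, (fun K => S.basis.repr x ((Equiv.ofBijective _ single_bijective).symm K)) K ^ p • S.cls K ∈
        DeRham.coboundaries S.d 1 := by
      rw [← (Equiv.ofBijective _ (single_bijective (n := n))).sum_comp]
      simpa using e
    refine S.basis.repr.injective (Finsupp.ext fun i => ?_)
    have := S.class_unique _ e' (single i)
    rw [show single i = Equiv.ofBijective _ (single_bijective (n := n)) i from rfl,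
      Equiv.symm_apply_apply] at this
    simpa using this
  · obtain ⟨z, rfl⟩ := cl_surjective p S.hd h
    obtain ⟨c, hc⟩ := S.exists_class z.2
    obtain ⟨hm, e⟩ := S.inv_sum (fun i => c (single i))
    refine ⟨_, e.trans ((cl_eq_iff p S.hd _ _).2 ?_)⟩
    rw [← (Equiv.ofBijective _ (single_bijective (n := n))).sum_comp] at hc
    have := neg_mem hc
    rw [neg_sub] at this
    exact this

variable [CharP A p] [PerfectRing A p]

theorem bijective_tmul_one :
    Function.Bijective fun c : B => c ⊗ₜ[A] (1 : FrobAlg.Twist p A) := by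
  have h : Function.Bijective (Algebra.linearMap A (FrobAlg.Twist p A)) := by
    have : (Algebra.linearMap A (FrobAlg.Twist p A) : A → FrobAlg.Twist p A) =
        (FrobAlg.toTwist p A) ∘ fun a => a ^ p := funext fun a => FrobAlg.algebraMap_twist p A a
    rw [this]
    exact (FrobAlg.toTwist p A).bijective.comp (PerfectRing.bijective_frobenius (R := A) (p := p))
  let e := (TensorProduct.rid A B).symm ≪≫ₗ (LinearEquiv.ofBijective _ h).lTensor B
  convert e.bijective using 1
  funext c
  simp [e]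

/-- Coordinates of a standard smooth algebra over a perfect ring. -/
theorem exists_coord [Algebra.IsStandardSmoothOfRelativeDimension n A B] :
    Nonempty (Coord p A B n) := by
  obtain ⟨g, hg⟩ := Algebra.IsStandardSmoothOfRelativeDimension.exists_etale_mvPolynomial (n := n) A B
  obtain ⟨d, hd⟩ := H44Hyper.exists_isDiff A B
  have hpb := FrobSmoothLib.bijective_linearCombination (p := p) g hg
  algebraize [g.toRingHom]
  haveI : IsScalarTower A (MvPolynomial (Fin n) A) B :=
    IsScalarTower.of_algebraMap_eq fun a => (g.commutes a).symm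
  haveI : Algebra.FormallyEtale (MvPolynomial (Fin n) A) B := inferInstance
  let b := ((KaehlerDifferential.mvPolynomialBasis A (Fin n)).baseChange B).map
    (KaehlerDifferential.tensorKaehlerEquivOfFormallyEtale A (MvPolynomial (Fin n) A) B)
  refine ⟨⟨CharP.cast_eq_zero B p, fun i => g (MvPolynomial.X i), b, fun i => ?_, ?_, d, hd⟩⟩
  · simp only [b, Module.Basis.map_apply, Module.Basis.baseChange_apply,
      KaehlerDifferential.mvPolynomialBasis_apply, KaehlerDifferential.tensorKaehlerEquivOfFormallyEtale_apply,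
      KaehlerDifferential.mapBaseChange_tmul, one_smul, KaehlerDifferential.map_D]
    rfl
  · letI := (FrobAlg.relFrob p A B).toAlgebra
    have hc : Function.Bijective fun (c : (Fin n → Fin p) → B) (r : Fin n → Fin p) =>
        c r ⊗ₜ[A] (1 : FrobAlg.Twist p A) :=
      Function.Bijective.comp_left (bijective_tmul_one (p := p) (A := A) (B := B))
    convert hpb.comp hc using 1
    funext c
    rw [Function.comp_apply, Fintype.linearCombination_apply]
    refine Finset.sum_congr rfl fun r _ => ?_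
    rw [Algebra.smul_def, RingHom.algebraMap_toAlgebra, FrobSmoothLib.relFrob_tmul', map_one, map_one,
      mul_one, MvPolynomial.monomial_eq, map_mul, map_one, map_one, one_mul, Finsupp.prod_fintype _ _ (by simp),
      map_prod]
    simp only [map_pow]
    rfl

end Coordinates

section Smooth

variable {p : ℕ} [hp : Fact p.Prime] {A B : Type u} [CommRing A] [CharP A p] [PerfectRing A p]
  [CommRing B] [Algebra A B] [CharP B p] [Algebra.Smooth A B]
  {d : ∀ q : ℕ, ↥(⋀[B]^q (Ω[B⁄A])) →ₗ[A] ↥(⋀[B]^(q + 1) (Ω[B⁄A]))}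
  (hd : DeRham.IsDiff (KaehlerDifferential.D A B) d)

theorem exists_pow_smul_eq_zero (r : B) {x : Ω[B⁄A]}
    (h : KaehlerDifferential.map A A B (Localization.Away r) x = 0) : ∃ m : ℕ, r ^ m • x = 0 := by
  haveI := KaehlerDifferential.isLocalizedModule_map A B (Localization.Away r) (Submonoid.powers r)
  obtain ⟨⟨_, m, rfl⟩, hm⟩ := (IsLocalizedModule.eq_iff_exists (Submonoid.powers r)
    (KaehlerDifferential.map A A B (Localization.Away r))).1 (h.trans (map_zero _).symm)
  exact ⟨m, by simpa [Submonoid.smul_def] using hm⟩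

theorem exists_pow_smul_map (r : B) (y : Ω[(Localization.Away r)⁄A]) :
    ∃ (k : ℕ) (x : Ω[B⁄A]), r ^ k • y = KaehlerDifferential.map A A B (Localization.Away r) x := by
  haveI := KaehlerDifferential.isLocalizedModule_map A B (Localization.Away r) (Submonoid.powers r)
  obtain ⟨⟨x, ⟨_, k, rfl⟩⟩, hx⟩ := IsLocalizedModule.surj (Submonoid.powers r)
    (KaehlerDifferential.map A A B (Localization.Away r)) y
  exact ⟨k, x, by simpa [Submonoid.smul_def] using hx⟩

variable (p) in
/-- The statement of bijectivity after localising at `r`, or triviality. -/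
theorem local_data (r : B) [Algebra.IsStandardSmooth A (Localization.Away r)]
    [Nontrivial (Localization.Away r)] :
    ∃ (_ : CharP (Localization.Away r) p)
      (d' : ∀ q : ℕ, ↥(⋀[Localization.Away r]^q (Ω[(Localization.Away r)⁄A])) →ₗ[A]
        ↥(⋀[Localization.Away r]^(q + 1) (Ω[(Localization.Away r)⁄A])))
      (hd' : DeRham.IsDiff (KaehlerDifferential.D A (Localization.Away r)) d'),
      Function.Bijective (inv p hd') := by
  haveI := FrobSmoothLib.charP_away (p := p) (A := A) r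
  obtain ⟨n, hn⟩ := FrobSmoothLib.exists_relativeDimension (A := A) (C := Localization.Away r)
  obtain ⟨S⟩ := exists_coord (p := p) (n := n) (A := A) (B := Localization.Away r)
  exact ⟨inferInstance, S.d, S.hd, S.inv_bijective⟩

theorem inv_injective : Function.Injective (inv p hd) := by
  refine (injective_iff_map_eq_zero _).2 fun x hx => ?_
  obtain ⟨s, hs, hstd⟩ := Algebra.Smooth.exists_span_eq_top_isStandardSmooth A B
  let I : Ideal B := (⊥ : Submodule B Ω[B⁄A]).comap (LinearMap.toSpanSingleton B _ x)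
  have hI : ∀ r ∈ s, r ∈ I.radical := fun r hr => by
    suffices h : KaehlerDifferential.map A A B (Localization.Away r) x = 0 by
      obtain ⟨m, hm⟩ := exists_pow_smul_eq_zero r h
      exact ⟨m, hm⟩
    rcases subsingleton_or_nontrivial (Localization.Away r) with h | h
    · haveI := Module.subsingleton (Localization.Away r) Ω[(Localization.Away r)⁄A]
      exact Subsingleton.elim _ _
    haveI := hstd r hr
    obtain ⟨hc, d', hd', hbij⟩ := local_data (A := A) p r
    have h0 : inv p hd x = cl p hd 0 := hx.trans (map_zero _).symm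
    refine hbij.1 ((inv_natural hd hd' x 0 h0).trans ?_)
    rw [map_zero, cl_eq_zero_iff]
    simp [map1]
  have h1 : (1 : B) ∈ I := by
    rw [← Ideal.eq_top_iff_one, ← Ideal.radical_eq_top, eq_top_iff, ← hs, Ideal.span_le]
    exact hI
  simpa [I] using h1

set_option maxHeartbeats 1000000 in
theorem exists_pow_smul_of_local (r : B) [CharP (Localization.Away r) p]
    {d' : ∀ q : ℕ, ↥(⋀[Localization.Away r]^q (Ω[(Localization.Away r)⁄A])) →ₗ[A]
      ↥(⋀[Localization.Away r]^(q + 1) (Ω[(Localization.Away r)⁄A]))}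
    (hd' : DeRham.IsDiff (KaehlerDifferential.D A (Localization.Away r)) d')
    (hsurj : Function.Surjective (inv p hd')) (z : ↥(DeRham.cocycles d 1)) :
    ∃ (N : ℕ) (y : Ω[B⁄A]), r ^ N • cl p hd z = inv p hd y := by
  set ρ := algebraMap B (Localization.Away r) r with hρ
  obtain ⟨y', hy'⟩ := hsurj (cl p hd' ⟨map1 z.1, map1_closed hd hd' z.2⟩)
  obtain ⟨k, y, hy⟩ := exists_pow_smul_map r y'
  obtain ⟨z₀, hz₀⟩ := cl_surjective p hd (inv p hd y)
  have e : cl p hd' ⟨map1 z₀.1, map1_closed hd hd' z₀.2⟩ =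
      (ρ ^ k) • cl p hd' ⟨map1 z.1, map1_closed hd hd' z.2⟩ := by
    rw [← inv_natural hd hd' y z₀ hz₀.symm, ← hy, ← hy', ← map_smul, hρ, ← map_pow, algebraMap_smul]
  rw [smul_cl, cl_eq_iff] at e
  obtain ⟨b', hb'⟩ := e
  obtain ⟨b', rfl⟩ := (exteriorPower.zeroEquiv (Localization.Away r) _).symm.surjective b'
  obtain ⟨l, b, hb⟩ := IsLocalization.Away.surj r b'
  have hp1 : (p - 1) * l + l = p * l := by
    obtain ⟨m, hm⟩ : ∃ m, p = m + 1 := ⟨p - 1, (Nat.sub_add_cancel hp.out.pos).symm⟩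
    subst hm
    simp
    ring
  -- the primitive on `B`
  set b₀ := (exteriorPower.zeroEquiv B (Ω[B⁄A])).symm (r ^ ((p - 1) * l) * b) with hb₀
  have e1 : map1 (B' := Localization.Away r) (d 0 b₀) =
      ρ ^ (p * l) • (map1 z₀.1 - ρ ^ (p * k) • map1 z.1) := by
    have hb1 : algebraMap B (Localization.Away r) (r ^ ((p - 1) * l) * b) = (ρ ^ l) ^ p • b' := by
      rw [map_mul, map_pow, ← hρ, ← hb, smul_eq_mul, mul_left_comm, ← pow_add, hp1, ← pow_mul,
        mul_comm l p, mul_comm]
    rw [hb₀, d_zero hd, map1, LinearEquiv.symm_apply_apply, KaehlerDifferential.map_D, ← d_zero hd',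
      hb1, map_smul, d_pow_smul hd' (CharP.cast_eq_zero _ p)]
    have hb2 : d' 0 ((exteriorPower.zeroEquiv (Localization.Away r) _).symm b') =
        map1 z₀.1 - (ρ ^ k) ^ p • map1 z.1 := hb'
    have el : (ρ ^ l) ^ p = ρ ^ (p * l) := by rw [← pow_mul, Nat.mul_comm]
    have ek : (ρ ^ k) ^ p = ρ ^ (p * k) := by rw [← pow_mul, Nat.mul_comm]
    rw [hb2, el, ek]
  set z₁ : ↥(⋀[B]^1 (Ω[B⁄A])) := r ^ (p * l) • (z₀.1 - r ^ (p * k) • z.1) - d 0 b₀ with hz₁
  have hsub : ∀ u v, map1 (B' := Localization.Away r) (u - v : ↥(⋀[B]^1 (Ω[B⁄A]))) = map1 u - map1 v :=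
    fun u v => by simp [map1]
  have hz1 : KaehlerDifferential.map A A B (Localization.Away r) (w1.symm z₁) = 0 := by
    suffices h : map1 (B' := Localization.Away r) z₁ = 0 by simpa [map1] using h
    rw [hz₁, hsub, map1_smul, hsub, map1_smul, map_pow, map_pow, ← hρ, e1, sub_self]
  obtain ⟨m, hm⟩ := exists_pow_smul_eq_zero r hz1
  refine ⟨m + l + k, r ^ (m + l) • y, ?_⟩
  rw [map_smul, ← hz₀, smul_cl, smul_cl, cl_eq_iff]
  have hm' : (r ^ m) ^ p • z₁ = 0 := by
    have h0 : r ^ m • z₁ = 0 := by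
      have := congrArg w1 hm
      simpa using this
    obtain ⟨c, hc⟩ := Nat.exists_eq_succ_of_ne_zero hp.out.ne_zero
    rw [hc, pow_succ, mul_smul, h0, smul_zero]
  refine ⟨-((r ^ m) ^ p • b₀), ?_⟩
  rw [map_neg, d_pow_smul hd (CharP.cast_eq_zero B p)]
  show _ = (r ^ (m + l + k)) ^ p • z.1 - (r ^ (m + l)) ^ p • z₀.1
  rw [hz₁, smul_sub, smul_sub, smul_sub, smul_smul, smul_smul, smul_smul, sub_eq_zero] at hm'
  rw [← hm']
  have e2 : (r ^ m) ^ p * r ^ (p * l) = (r ^ (m + l)) ^ p := by ring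
  have e3 : (r ^ (m + l)) ^ p * r ^ (p * k) = (r ^ (m + l + k)) ^ p := by ring
  rw [← e3, ← e2]
  abel

theorem inv_surjective : Function.Surjective (inv p hd) := by
  intro h
  obtain ⟨s, hs, hstd⟩ := Algebra.Smooth.exists_span_eq_top_isStandardSmooth A B
  let I : Ideal B := (LinearMap.range (inv p hd)).comap (LinearMap.toSpanSingleton B _ h)
  have hI : ∀ r ∈ s, r ∈ I.radical := fun r hr => by
    obtain ⟨z, rfl⟩ := cl_surjective p hd h
    suffices hex : ∃ (N : ℕ) (y : Ω[B⁄A]), r ^ N • cl p hd z = inv p hd y by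
      obtain ⟨N, y, hy⟩ := hex
      exact ⟨N, y, hy.symm⟩
    rcases subsingleton_or_nontrivial (Localization.Away r) with hsub | hnt
    · obtain ⟨⟨_, m, rfl⟩, hm⟩ := (IsLocalization.eq_iff_exists (Submonoid.powers r) (Localization.Away r)).1
        (Subsingleton.elim (algebraMap B _ 1) (algebraMap B _ 0))
      have h0 : r ^ m = 0 := by simpa using hm
      exact ⟨m, 0, by rw [h0, zero_smul, map_zero]⟩
    haveI := hstd r hr
    obtain ⟨hc, d', hd', hbij⟩ := local_data (A := A) p r
    exact exists_pow_smul_of_local hd r hd' hbij.2 z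
  have h1 : (1 : B) ∈ I := by
    rw [← Ideal.eq_top_iff_one, ← Ideal.radical_eq_top, eq_top_iff, ← hs, Ideal.span_le]
    exact hI
  simpa [I] using h1

include hd in
/-- The Cartier operator in degree one. -/
theorem existsUnique_cartier :
    ∃! C : ↥(DeRham.cocycles d 1) →+ ↥(⋀[B]^1 (Ω[B⁄A])),
      (∀ (f : B) (ω ω' : ↥(DeRham.cocycles d 1)),
          (ω' : ↥(⋀[B]^1 (Ω[B⁄A]))) = f ^ p • (ω : ↥(⋀[B]^1 (Ω[B⁄A]))) → C ω' = f • C ω) ∧
      (∀ ω : ↥(DeRham.cocycles d 1), C ω = 0 ↔ (ω : ↥(⋀[B]^1 (Ω[B⁄A]))) ∈ DeRham.coboundaries d 1) ∧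
      (∀ (f : B) (ω : ↥(DeRham.cocycles d 1)),
          (ω : ↥(⋀[B]^1 (Ω[B⁄A]))) = f ^ (p - 1) • d 0 ((exteriorPower.zeroEquiv B (Ω[B⁄A])).symm f) →
            C ω = d 0 ((exteriorPower.zeroEquiv B (Ω[B⁄A])).symm f)) := by
  let e := LinearEquiv.ofBijective (inv p hd) ⟨inv_injective hd, inv_surjective hd⟩
  let C : ↥(DeRham.cocycles d 1) →+ ↥(⋀[B]^1 (Ω[B⁄A])) :=
    (w1.toLinearMap.comp e.symm.toLinearMap).toAddMonoidHom.comp (cl p hd)
  have hC : ∀ ω, C ω = w1 (e.symm (cl p hd ω)) := fun ω => rfl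
  refine ⟨C, ⟨fun f ω ω' h => ?_, fun ω => ?_, fun f ω h => ?_⟩, ?_⟩
  · have e' : cl p hd ω' = f • cl p hd ω := by
      rw [smul_cl]
      exact congrArg _ (Subtype.ext h)
    rw [hC, hC, e', map_smul, map_smul]
  · rw [hC, LinearEquiv.map_eq_zero_iff, LinearEquiv.map_eq_zero_iff, cl_eq_zero_iff]
  · have e' : cl p hd ω = e (KaehlerDifferential.D A B f) := by
      show _ = inv p hd _
      rw [inv, Derivation.liftKaehlerDifferential_comp_D]
      exact congrArg (cl p hd) (Subtype.ext (h.trans (by rw [d_zero hd]; rfl)))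
    rw [hC, e', LinearEquiv.symm_apply_apply, d_zero hd]
  · rintro C' ⟨h1, h2, h3⟩
    refine AddMonoidHom.ext fun ω => ?_
    have key : ∀ x : Ω[B⁄A], ∃ z, inv p hd x = cl p hd z ∧ C' z = w1 x := fun x =>
      span_induction' (P := fun x => ∃ z, inv p hd x = cl p hd z ∧ C' z = w1 x) x
        ⟨0, by simp, by simp⟩
        (fun x y ⟨a, ha, ha'⟩ ⟨b, hb, hb'⟩ => ⟨a + b, by rw [map_add, map_add, ha, hb],
          by rw [map_add, map_add, ha', hb']⟩)
        (fun f g => ⟨_, inv_smul_D p hd f g, by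
          rw [h1 f ⟨gam p g, d_gam hd g⟩ _ rfl, h3 g ⟨gam p g, d_gam hd g⟩ (by rw [d_zero hd]; rfl),
            d_zero hd, map_smul]⟩)
    obtain ⟨z, hz, hz'⟩ := key (e.symm (cl p hd ω))
    have hz2 : cl p hd z = cl p hd ω := by rw [← hz]; exact e.apply_symm_apply _
    have h0 : C' (ω - z) = 0 := (h2 _).2 ((cl_eq_zero_iff p hd _).1 (((cl p hd).map_sub ω z).trans (by rw [hz2]; exact sub_self _)))
    replace h0 : C' ω = C' z := sub_eq_zero.1 ((C'.map_sub ω z).symm.trans h0)
    rw [h0, hz', hC]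

end Smooth

end Groth.Agent.H44Cartier
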